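import Mathlib

/-!
The Feit–Higman restriction, in the form: two operators satisfying the Hecke relations of a
dihedral group of order `2 m`, with trace zero on all non-trivial basis elements, force
`m ∈ {2, 3, 4, 6, 8}`.
-/

set_option autoImplicit false

namespace Cfsg.Agent.FeitHigman

open Real

/-- The Hecke relations of a dihedral group on a finite set. -/
structure HeckeRel {V : Type*} [Fintype V] [DecidableEq V] (m : ℕ) (a b : ℕ)
    (S T : Matrix V V ℝ) (u v : ℕ → Matrix V V ℝ) : Prop where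
  u0 : u 0 = 1
  v0 : v 0 = 1
  uv : u m = v m
  sv : ∀ k, k < m → S * v k = u (k + 1)
  tu : ∀ k, k < m → T * u k = v (k + 1)
  su : ∀ k, k < m → S * u (k + 1) = ((b : ℝ) - 1) • u (k + 1) + (b : ℝ) • v k
  tv : ∀ k, k < m → T * v (k + 1) = ((a : ℝ) - 1) • v (k + 1) + (a : ℝ) • u k
  tru : ∀ k, 1 ≤ k → k ≤ m → (u k).trace = 0
  trv : ∀ k, 1 ≤ k → k ≤ m → (v k).trace = 0

section chain

variable {V : Type*} [Fintype V] [DecidableEq V]

/-- An eigenvector of the intersection matrix gives a natural multiplicity. -/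
theorem exists_multiplicity (L : Matrix V V ℝ) (h : ℕ → Matrix V V ℝ) (d : ℕ) (β lam : ℝ)
    (cc aa bb vv r : ℕ → ℝ)
    (hrec : ∀ i, i ≤ d → L * h i = bb i • h (i - 1) + aa i • h i + cc (i + 1) • h (i + 1))
    (hend : h (d + 1) = 0) (hbb0 : bb 0 = 0) (hbbd : bb (d + 1) = 0) (hcc0 : cc 0 = 0)
    (hr : ∀ k, k ≤ d → lam * r k = cc k * r (k - 1) + aa k * r k + bb (k + 1) * r (k + 1))
    (hr0 : r 0 = 1) (hv0 : vv 0 = 1) (hv : ∀ i, i < d → cc (i + 1) * vv (i + 1) = bb (i + 1) * vv i)
    (hcc : ∀ i, i < d → cc (i + 1) ≠ 0)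
    (h0 : ∀ i, i ≤ d → h 0 * h i = β • h i) (hβ : β ≠ 0)
    (htr0 : (h 0).trace = Fintype.card V) (htr : ∀ i, 1 ≤ i → i ≤ d → (h i).trace = 0)
    (hG : ∑ i ∈ Finset.range (d + 1), vv i * r i ^ 2 ≠ 0) :
    ∃ f : ℕ, β * (∑ i ∈ Finset.range (d + 1), vv i * r i ^ 2) * f = Fintype.card V := by
  classical
  set E := ∑ i ∈ Finset.range (d + 1), r i • h i with hE
  set G := ∑ i ∈ Finset.range (d + 1), vv i * r i ^ 2 with hGdef
  have hLE : L * E = lam • E := by
    rw [hE, Finset.mul_sum, Finset.smul_sum]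
    have e1 : ∀ i ∈ Finset.range (d + 1), L * (r i • h i) =
        (r i * bb i) • h (i - 1) + (r i * aa i) • h i + (r i * cc (i + 1)) • h (i + 1) := by
      intro i hi
      rw [Matrix.mul_smul, hrec i (by simpa [Nat.lt_succ_iff] using hi)]
      simp only [smul_add, smul_smul]
    rw [Finset.sum_congr rfl e1, Finset.sum_add_distrib, Finset.sum_add_distrib]
    have e2 : ∑ i ∈ Finset.range (d + 1), (r i * bb i) • h (i - 1) =
        ∑ i ∈ Finset.range (d + 1), (r (i + 1) * bb (i + 1)) • h i := by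
      rw [Finset.sum_range_succ', Finset.sum_range_succ _ d, hbb0, hbbd]
      simp
    have e3 : ∑ i ∈ Finset.range (d + 1), (r i * cc (i + 1)) • h (i + 1) =
        ∑ i ∈ Finset.range (d + 1), (r (i - 1) * cc i) • h i := by
      rw [Finset.sum_range_succ, Finset.sum_range_succ' _ d, hend, hcc0]
      simp
    rw [e2, e3, ← Finset.sum_add_distrib, ← Finset.sum_add_distrib]
    refine Finset.sum_congr rfl fun i hi => ?_
    rw [← add_smul, ← add_smul, smul_smul]
    congr 1
    rw [hr i (by simpa [Nat.lt_succ_iff] using hi)]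
    ring
  have h0E : h 0 * E = β • E := by
    rw [hE, Finset.mul_sum, Finset.smul_sum]
    refine Finset.sum_congr rfl fun i hi => ?_
    rw [Matrix.mul_smul, h0 i (by simpa [Nat.lt_succ_iff] using hi), smul_comm]
  have hiE : ∀ i, i ≤ d → h i * E = (β * vv i * r i) • E := by
    intro i
    induction i using Nat.strong_induction_on with
    | _ i ih =>
      intro hi
      cases i with
      | zero => rw [h0E, hv0, hr0, mul_one, mul_one]
      | succ i =>
        have hi' : i ≤ d := by omega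
        have h1 := congrArg (· * E) (hrec i hi')
        simp only [Matrix.mul_assoc, Matrix.add_mul, Matrix.smul_mul] at h1
        rw [ih i (by omega) hi', Matrix.mul_smul, hLE, smul_smul] at h1
        have hprev : bb i • (h (i - 1) * E) = (bb i * (β * vv (i - 1) * r (i - 1))) • E := by
          rw [ih (i - 1) (by omega) (by omega), smul_smul]
        rw [hprev, smul_smul, ← add_smul] at h1
        have hkey : cc (i + 1) • (h (i + 1) * E) =
            (β * vv i * r i * lam - (bb i * (β * vv (i - 1) * r (i - 1)) +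
              aa i * (β * vv i * r i))) • E := by
          rw [sub_smul, h1, add_sub_cancel_left]
        have hlam := hr i hi'
        have hval : β * vv i * r i * lam - (bb i * (β * vv (i - 1) * r (i - 1)) +
            aa i * (β * vv i * r i)) = cc (i + 1) * (β * vv (i + 1) * r (i + 1)) := by
          have hv1 := hv i (by omega)
          cases i with
          | zero =>
            simp only [hbb0, hcc0] at *
            linear_combination (β * vv 0) * hlam - (β * r 1) * hv1
          | succ j =>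
            simp only [Nat.add_sub_cancel] at *
            have hv2 := hv j (by omega)
            linear_combination (β * vv (j + 1)) * hlam + (β * r j) * hv2 - (β * r (j + 1 + 1)) * hv1
        rw [hval, mul_smul] at hkey
        exact (smul_right_injective (Matrix V V ℝ) (hcc i (by omega))) hkey
  have hEE : E * E = (β * G) • E := by
    conv_lhs => arg 1; rw [hE]
    rw [Finset.sum_mul, hGdef, Finset.mul_sum, Finset.sum_smul]
    refine Finset.sum_congr rfl fun i hi => ?_
    rw [Matrix.smul_mul, hiE i (by simpa [Nat.lt_succ_iff] using hi), smul_smul]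
    congr 1
    ring
  have htrE : E.trace = Fintype.card V := by
    rw [hE, Matrix.trace_sum, Finset.sum_range_succ']
    simp only [Matrix.trace_smul, hr0, htr0, one_smul]
    rw [Finset.sum_eq_zero fun i hi => by
      rw [htr (i + 1) (by omega) (by simp at hi; omega), smul_zero], zero_add]
  set P := (β * G)⁻¹ • E with hP
  have hidem : IsIdempotentElem (Matrix.toLin' P) := by
    show Matrix.toLin' P * Matrix.toLin' P = Matrix.toLin' P
    rw [Module.End.mul_eq_comp, ← Matrix.toLin'_mul]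
    congr 1
    rw [hP, Matrix.smul_mul, Matrix.mul_smul, hEE, smul_smul, smul_smul,
      mul_assoc, inv_mul_cancel₀ (mul_ne_zero hβ hG), mul_one]
  have htrP := (LinearMap.IsIdempotentElem.isProj_range _ hidem).trace
  refine ⟨Module.finrank ℝ (LinearMap.range (Matrix.toLin' P)), ?_⟩
  rw [← htrP, Matrix.trace_toLin'_eq, hP, Matrix.trace_smul, htrE, smul_eq_mul, ← mul_assoc,
    mul_inv_cancel₀ (mul_ne_zero hβ hG), one_mul]

end chain

section trig

/-- The interpolating sequence. -/
noncomputable def zf (θ B : ℝ) (i : ℕ) : ℝ := cos (i * θ) + B * sin (i * θ)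

lemma zf_zero (θ B : ℝ) : zf θ B 0 = 1 := by simp [zf]

lemma zf_one (θ B : ℝ) : zf θ B 1 = cos θ + B * sin θ := by simp [zf]

lemma zf_rec (θ B : ℝ) (i : ℕ) :
    zf θ B (i + 2) = 2 * cos θ * zf θ B (i + 1) - zf θ B i := by
  simp only [zf]
  have h1 : ((i + 2 : ℕ) : ℝ) * θ = ((i + 1 : ℕ) : ℝ) * θ + θ := by push_cast; ring
  have h2 : (i : ℝ) * θ = ((i + 1 : ℕ) : ℝ) * θ - θ := by push_cast; ring
  rw [h1, h2, cos_add, sin_add, cos_sub, sin_sub]
  ring

lemma sum_cos_two (θ : ℝ) : ∀ n : ℕ, 2 * sin θ * ∑ i ∈ Finset.range n, cos (2 * i * θ) =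
    sin ((2 * n - 1) * θ) + sin θ := by
  intro n
  induction n with
  | zero => simp
  | succ n ih =>
    rw [Finset.sum_range_succ, mul_add, ih]
    push_cast
    rw [show (2 * ((n : ℝ) + 1) - 1) * θ = 2 * n * θ + θ by ring,
      show (2 * (n : ℝ) - 1) * θ = 2 * n * θ - θ by ring, sin_add, sin_sub]
    ring

lemma sum_sin_two (θ : ℝ) : ∀ n : ℕ, 2 * sin θ * ∑ i ∈ Finset.range n, sin (2 * i * θ) =
    cos θ - cos ((2 * n - 1) * θ) := by
  intro n
  induction n with
  | zero => simp
  | succ n ih =>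
    rw [Finset.sum_range_succ, mul_add, ih]
    push_cast
    rw [show (2 * ((n : ℝ) + 1) - 1) * θ = 2 * n * θ + θ by ring,
      show (2 * (n : ℝ) - 1) * θ = 2 * n * θ - θ by ring, cos_add, cos_sub]
    ring

lemma zf_sq (θ B : ℝ) (i : ℕ) : zf θ B i ^ 2 =
    (1 + B ^ 2) / 2 + (1 - B ^ 2) / 2 * cos (2 * i * θ) + B * sin (2 * i * θ) := by
  rw [mul_assoc 2 (i : ℝ) θ, cos_two_mul, sin_two_mul, zf]
  linear_combination (B ^ 2) * sin_sq_add_cos_sq ((i : ℝ) * θ)

lemma sum_zf_sq (θ B : ℝ) (n : ℕ) : 2 * sin θ * ∑ i ∈ Finset.range n, zf θ B i ^ 2 =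
    sin θ * n * (1 + B ^ 2) + (1 - B ^ 2) / 2 * (sin ((2 * n - 1) * θ) + sin θ) +
      B * (cos θ - cos ((2 * n - 1) * θ)) := by
  simp only [zf_sq, Finset.sum_add_distrib, ← Finset.mul_sum, Finset.sum_const, Finset.card_range,
    nsmul_eq_mul]
  linear_combination ((1 - B ^ 2) / 2) * sum_cos_two θ n + B * sum_sin_two θ n

end trig

section steps

variable {V : Type*} [Fintype V] [DecidableEq V] {m a b : ℕ}
  {S T : Matrix V V ℝ} {u v : ℕ → Matrix V V ℝ} (hH : HeckeRel m a b S T u v)
include hH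

lemma sone_v {k : ℕ} (hk : k < m) : (1 + S) * v k = v k + u (k + 1) := by
  rw [add_mul, one_mul, hH.sv k hk]

lemma sone_u {k : ℕ} (hk : k < m) : (1 + S) * u (k + 1) = (b : ℝ) • (v k + u (k + 1)) := by
  rw [add_mul, one_mul, hH.su k hk]
  module

lemma sone_zero (hm : 0 < m) : (1 + S) * u 0 = v 0 + u 1 := by
  have e : u 0 = v 0 := hH.u0.trans hH.v0.symm
  rw [e]
  exact sone_v hH hm

lemma sone_eq (hm : 0 < m) : 1 + S = v 0 + u 1 := by
  have := sone_v hH hm
  rw [hH.v0, mul_one] at this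
  rw [hH.v0]
  exact this

lemma sone_top {k : ℕ} (hk : k + 1 = m) : (1 + S) * v (k + 1) = (b : ℝ) • (v k + u (k + 1)) := by
  rw [hk, ← hH.uv, ← hk, sone_u hH (by omega)]

lemma tv_top {k : ℕ} (hk : k + 1 = m) :
    T * u (k + 1) = ((a : ℝ) - 1) • v (k + 1) + (a : ℝ) • u k := by
  rw [hk, hH.uv, ← hk, hH.tv k (by omega)]

lemma sone_w {k : ℕ} (hk : k < m) :
    (1 + S) * (v k + u (k + 1)) = ((b : ℝ) + 1) • (v k + u (k + 1)) := by
  rw [mul_add, sone_v hH hk, sone_u hH hk]
  module

lemma L_zero (hm : 2 < m) :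
    (1 + S) * T * (v 0 + u 1) = (v 1 + u 2) + (v 2 + u 3) := by
  have hT : T * v 0 = v 1 := by rw [hH.v0, ← hH.u0]; exact hH.tu 0 (by omega)
  rw [mul_assoc, mul_add T, hT, hH.tu 1 (by omega), mul_add, sone_v hH (by omega),
    sone_v hH (by omega)]

lemma L_zero_two (hm : m = 2) :
    (1 + S) * T * (v 0 + u 1) = ((b : ℝ) + 1) • (v 1 + u 2) := by
  have hT : T * v 0 = v 1 := by rw [hH.v0, ← hH.u0]; exact hH.tu 0 (by omega)
  rw [mul_assoc, mul_add T, hT, hH.tu 1 (by omega), mul_add, sone_v hH (by omega),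
    sone_top hH (show 1 + 1 = m by omega)]
  module

lemma L_inner {k : ℕ} (hk : k + 4 < m) :
    (1 + S) * T * ((v (k + 1) + u (k + 2)) + (v (k + 2) + u (k + 3))) =
      (a : ℝ) • ((1 + S) * u k + (b : ℝ) • (v k + u (k + 1))) +
        ((a : ℝ) - 1) • ((v (k + 1) + u (k + 2)) + (v (k + 2) + u (k + 3))) +
        ((v (k + 3) + u (k + 4)) + (v (k + 4) + u (k + 5))) := by
  rw [mul_assoc]
  simp only [mul_add T, hH.tv k (by omega), hH.tu (k + 2) (by omega), hH.tv (k + 1) (by omega),
    hH.tu (k + 3) (by omega)]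
  simp only [mul_add, Matrix.mul_smul, sone_v hH (show k + 1 < m by omega),
    sone_v hH (show k + 2 < m by omega), sone_v hH (show k + 3 < m by omega),
    sone_v hH (show k + 4 < m by omega), sone_u hH (show k < m by omega)]
  module

lemma L_even_pre {k : ℕ} (hk : k + 4 = m) :
    (1 + S) * T * ((v (k + 1) + u (k + 2)) + (v (k + 2) + u (k + 3))) =
      (a : ℝ) • ((1 + S) * u k + (b : ℝ) • (v k + u (k + 1))) +
        ((a : ℝ) - 1) • ((v (k + 1) + u (k + 2)) + (v (k + 2) + u (k + 3))) +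
        ((b : ℝ) + 1) • (v (k + 3) + u (k + 4)) := by
  rw [mul_assoc]
  simp only [mul_add T, hH.tv k (by omega), hH.tu (k + 2) (by omega), hH.tv (k + 1) (by omega),
    hH.tu (k + 3) (by omega)]
  simp only [mul_add, Matrix.mul_smul, sone_v hH (show k + 1 < m by omega),
    sone_v hH (show k + 2 < m by omega), sone_v hH (show k + 3 < m by omega),
    sone_top hH (show k + 3 + 1 = m by omega), sone_u hH (show k < m by omega)]
  module

lemma L_odd_top {k : ℕ} (hk : k + 3 = m) :
    (1 + S) * T * ((v (k + 1) + u (k + 2)) + (v (k + 2) + u (k + 3))) =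
      (a : ℝ) • ((1 + S) * u k + (b : ℝ) • (v k + u (k + 1))) +
        ((a : ℝ) - 1 + a * b) • ((v (k + 1) + u (k + 2)) + (v (k + 2) + u (k + 3))) := by
  rw [mul_assoc]
  simp only [mul_add T, hH.tv k (by omega), hH.tu (k + 2) (by omega), hH.tv (k + 1) (by omega),
    tv_top hH (show k + 2 + 1 = m by omega)]
  simp only [mul_add, Matrix.mul_smul, sone_v hH (show k + 1 < m by omega),
    sone_v hH (show k + 2 < m by omega), sone_top hH (show k + 2 + 1 = m by omega),
    sone_u hH (show k < m by omega), sone_u hH (show k + 1 < m by omega)]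
  module

lemma L_even_top {k : ℕ} (hk : k + 2 = m) :
    (1 + S) * T * (v (k + 1) + u (k + 2)) =
      (a : ℝ) • ((1 + S) * u k + (b : ℝ) • (v k + u (k + 1))) +
        (((b : ℝ) + 1) * ((a : ℝ) - 1)) • (v (k + 1) + u (k + 2)) := by
  rw [mul_assoc]
  simp only [mul_add T, hH.tv k (by omega), tv_top hH (show k + 1 + 1 = m by omega)]
  simp only [mul_add, Matrix.mul_smul, sone_v hH (show k + 1 < m by omega),
    sone_top hH (show k + 1 + 1 = m by omega), sone_u hH (show k < m by omega)]
  module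

end steps

end Cfsg.Agent.FeitHigman
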