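import Mathlib
import Cfsg.Agent.Lib.FeitHigman.Hecke

/-!
The numerical part of the Feit–Higman theorem.
-/

set_option autoImplicit false

namespace Cfsg.Agent.FeitHigman

open Real

variable {V : Type*} [Fintype V] [DecidableEq V] [Nonempty V] {m a b : ℕ}
  {S T : Matrix V V ℝ} {u v : ℕ → Matrix V V ℝ}

/-- The classes of the point-to-point relation. -/
def hseq (u v : ℕ → Matrix V V ℝ) (d : ℕ) (last : Matrix V V ℝ) (i : ℕ) : Matrix V V ℝ :=
  if i = 0 then v 0 + u 1 else if i < d then (v (2 * i - 1) + u (2 * i)) + (v (2 * i) + u (2 * i + 1))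
    else if i = d then last else 0

omit [Nonempty V] in
lemma sone_u_cases (hH : HeckeRel m a b S T u v) (hm : 2 ≤ m) (j : ℕ) (hj : 2 * j + 1 < m) :
    (a : ℝ) • ((1 + S) * u (2 * j) + (b : ℝ) • (v (2 * j) + u (2 * j + 1))) =
      if j = 0 then ((a : ℝ) * (b + 1)) • (v 0 + u 1)
      else ((a : ℝ) * b) • ((v (2 * j - 1) + u (2 * j)) + (v (2 * j) + u (2 * j + 1))) := by
  rcases j with _ | j
  · rw [if_pos rfl, mul_zero, sone_zero hH (by omega)]
    module
  · rw [if_neg (Nat.succ_ne_zero j), show 2 * (j + 1) - 1 = 2 * j + 1 by omega,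
      show 2 * (j + 1) = 2 * j + 1 + 1 by omega, sone_u hH (by omega)]
    module

omit [Nonempty V] in
lemma trace_w (hH : HeckeRel m a b S T u v) {k : ℕ} (h1 : 1 ≤ k) (h2 : k < m) :
    (v k + u (k + 1)).trace = 0 := by
  rw [Matrix.trace_add, hH.trv k h1 h2.le, hH.tru (k + 1) (by omega) (by omega), add_zero]

omit [Nonempty V] in
lemma trace_w0 (hH : HeckeRel m a b S T u v) (hm : 1 ≤ m) :
    (v 0 + u 1).trace = Fintype.card V := by
  rw [Matrix.trace_add, hH.v0, hH.tru 1 le_rfl hm, Matrix.trace_one, add_zero]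

/-- Even diameter: every eigenvalue parameter gives a rational quantity. -/
theorem even_rational (hH : HeckeRel m a b S T u v) {d : ℕ} (hm : m = 2 * d) (hd : 1 ≤ d)
    (ha : 2 ≤ a) (hb : 2 ≤ b) {j : ℕ} (hj : 1 ≤ j) (hjd : j < d) :
    ∃ y : ℚ, (y : ℝ) = √((a : ℝ) * b) * cos (π * j / d) := by
  -- it suffices to produce the rational multiplicities
  suffices H : ∀ i : ℕ, 1 ≤ i → i < d → ∃ ρ : ℚ, 1 ≤ ρ ∧
      let y := √((a : ℝ) * b) * cos (π * i / d)
      ((ρ : ℝ) - 1) * ((b : ℝ) + 1) ^ 2 * ((a : ℝ) * b - y ^ 2) =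
        (((a : ℝ) - 1) * b + ((b : ℝ) - 1) * y) ^ 2 by
    obtain ⟨ρ, hρ, h1⟩ := H j hj hjd
    obtain ⟨ρ', hρ', h2⟩ := H (d - j) (by omega) (by omega)
    set y := √((a : ℝ) * b) * cos (π * j / d) with hy
    have hcos : cos (π * ((d - j : ℕ) : ℝ) / d) = - cos (π * j / d) := by
      have hd0 : (d : ℝ) ≠ 0 := by positivity
      rw [Nat.cast_sub hjd.le, mul_sub, sub_div, mul_div_cancel_right₀ _ hd0, cos_pi_sub]
    simp only [hcos, mul_neg, ← hy, neg_sq] at h1 h2
    let A2 : ℚ := ((b : ℚ) - 1) ^ 2 + (ρ - 1) * ((b : ℚ) + 1) ^ 2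
    let A2' : ℚ := ((b : ℚ) - 1) ^ 2 + (ρ' - 1) * ((b : ℚ) + 1) ^ 2
    let A1 : ℚ := 2 * ((a : ℚ) - 1) * b * ((b : ℚ) - 1)
    let A0 : ℚ := ((a : ℚ) - 1) ^ 2 * b ^ 2 - (ρ - 1) * ((b : ℚ) + 1) ^ 2 * a * b
    let A0' : ℚ := ((a : ℚ) - 1) ^ 2 * b ^ 2 - (ρ' - 1) * ((b : ℚ) + 1) ^ 2 * a * b
    have hb' : (2 : ℚ) ≤ b := by exact_mod_cast hb
    have ha' : (2 : ℚ) ≤ a := by exact_mod_cast ha
    have hA2 : 0 < A2 := by
      have : (0 : ℚ) < ((b : ℚ) - 1) ^ 2 := by nlinarith
      have : (0 : ℚ) ≤ (ρ - 1) * ((b : ℚ) + 1) ^ 2 := mul_nonneg (by linarith) (sq_nonneg _)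
      simp only [A2]; linarith
    have hA2' : 0 < A2' := by
      have : (0 : ℚ) < ((b : ℚ) - 1) ^ 2 := by nlinarith
      have : (0 : ℚ) ≤ (ρ' - 1) * ((b : ℚ) + 1) ^ 2 := mul_nonneg (by linarith) (sq_nonneg _)
      simp only [A2']; linarith
    have hA1 : 0 < A1 := by
      simp only [A1]
      exact mul_pos (mul_pos (mul_pos two_pos (by linarith)) (by linarith)) (by linarith)
    refine ⟨(A0' * A2 - A0 * A2') / (A1 * (A2 + A2')), ?_⟩
    have hne : ((A1 : ℝ) * ((A2 : ℝ) + A2')) ≠ 0 := by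
      have : 0 < A1 * (A2 + A2') := mul_pos hA1 (add_pos hA2 hA2')
      exact_mod_cast this.ne'
    push_cast
    rw [div_eq_iff hne]
    simp only [A2, A2', A1, A0, A0']
    push_cast
    linear_combination (((b : ℝ) - 1) ^ 2 + ((ρ' : ℝ) - 1) * ((b : ℝ) + 1) ^ 2) * h1 -
      (((b : ℝ) - 1) ^ 2 + ((ρ : ℝ) - 1) * ((b : ℝ) + 1) ^ 2) * h2
  clear hj hjd j
  intro i hi hid
  set θ := π * i / d with hθ
  set w := √((a : ℝ) * b) with hw
  have ha0 : (0 : ℝ) < a := by exact_mod_cast (by omega : 0 < a)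
  have hb0 : (0 : ℝ) < b := by exact_mod_cast (by omega : 0 < b)
  have hw2 : w ^ 2 = a * b := sq_sqrt (by positivity)
  have hw0 : 0 < w := sqrt_pos.2 (by positivity)
  have hd0 : (d : ℝ) ≠ 0 := by positivity
  have hsin : 0 < sin θ := by
    refine sin_pos_of_pos_of_lt_pi ?_ ?_
    · have : (0 : ℝ) < i := by exact_mod_cast (by omega : 0 < i)
      have : (0 : ℝ) < d := by exact_mod_cast (by omega : 0 < d)
      positivity
    · rw [hθ, div_lt_iff₀ (by positivity)]
      have : (i : ℝ) < d := by exact_mod_cast hid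
      exact mul_lt_mul_of_pos_left this pi_pos
  set B := (((a : ℝ) - 1) * b / w + ((b : ℝ) - 1) * cos θ) / (((b : ℝ) + 1) * sin θ) with hB
  have hBs : B * sin θ * ((b : ℝ) + 1) = ((a : ℝ) - 1) * b / w + ((b : ℝ) - 1) * cos θ := by
    rw [hB]; field_simp
  clear_value B
  clear hB
  set lam := (a : ℝ) - 1 + 2 * w * cos θ with hlam
  set r : ℕ → ℝ := fun k => zf θ B k / w ^ k with hr
  set cc : ℕ → ℝ := fun k => if k = 0 then 0 else if k < d then 1 else (b : ℝ) + 1
  set aa : ℕ → ℝ := fun k => if k = 0 then 0 else if k < d then (a : ℝ) - 1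
    else ((b : ℝ) + 1) * ((a : ℝ) - 1)
  set bb : ℕ → ℝ := fun k => if k = 0 then 0 else if k = 1 then (a : ℝ) * (b + 1)
    else if k ≤ d then (a : ℝ) * b else 0
  set vv : ℕ → ℝ := fun k => if k = 0 then 1 else if k < d then ((b : ℝ) + 1) / b * w ^ (2 * k)
    else 1 / b * w ^ (2 * k) with hvv
  set h : ℕ → Matrix V V ℝ := hseq u v d (v (2 * d - 1) + u (2 * d)) with hh
  have hzd : zf θ B d = (-1) ^ i := by
    have : (d : ℝ) * θ = i * π := by rw [hθ]; field_simp
    rw [zf, this, cos_nat_mul_pi, sin_nat_mul_pi, mul_zero, add_zero]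
  have hzd1 : zf θ B (d - 1) = (-1) ^ i * (cos θ - B * sin θ) := by
    have : ((d - 1 : ℕ) : ℝ) * θ = i * π - θ := by
      rw [Nat.cast_sub hd, hθ, Nat.cast_one]; field_simp
    rw [zf, this, cos_nat_mul_pi_sub, sin_nat_mul_pi_sub]
    ring
  have hG : ∑ k ∈ Finset.range (d + 1), vv k * r k ^ 2 =
      ((b : ℝ) + 1) * d * (1 + B ^ 2) / (2 * b) := by
    have hterm : ∀ k, k < d → vv k * r k ^ 2 =
        ((b : ℝ) + 1) / b * zf θ B k ^ 2 - (if k = 0 then 1 / (b : ℝ) else 0) := by
      intro k hk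
      rcases eq_or_ne k 0 with rfl | hk0
      · simp only [hvv, hr, if_pos, zf_zero]
        field_simp
        ring
      · simp only [hvv, hr, if_neg hk0, if_pos hk, div_pow, ← pow_mul, mul_comm k 2, sub_zero]
        field_simp
    have hlast : vv d * r d ^ 2 = 1 / b := by
      simp only [hvv, hr, if_neg (by omega : ¬d = 0), lt_irrefl, if_false, hzd, div_pow, ← pow_mul,
        mul_comm i 2, pow_mul (-1 : ℝ) 2, neg_one_sq, one_pow, mul_comm d 2]
      field_simp
    rw [Finset.sum_range_succ, hlast, Finset.sum_congr rfl fun k hk => hterm k (Finset.mem_range.1 hk),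
      Finset.sum_sub_distrib, Finset.sum_ite_eq' (Finset.range d) 0, if_pos (by simp; omega),
      ← Finset.mul_sum]
    have hs := sum_zf_sq θ B d
    have h2dθ : (2 * (d : ℝ) - 1) * θ = (2 * i : ℕ) * π - θ := by
      push_cast
      rw [hθ]; field_simp
    rw [h2dθ, sin_nat_mul_pi_sub, cos_nat_mul_pi_sub, pow_mul, neg_one_sq, one_pow] at hs
    have hsum : ∑ k ∈ Finset.range d, zf θ B k ^ 2 = d * (1 + B ^ 2) / 2 := by
      have h3 : 2 * sin θ * ∑ k ∈ Finset.range d, zf θ B k ^ 2 =
          2 * sin θ * (d * (1 + B ^ 2) / 2) := by rw [hs]; ring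
      exact mul_left_cancel₀ (by positivity) h3
    rw [hsum]
    field_simp
    ring
  have hGne : ∑ k ∈ Finset.range (d + 1), vv k * r k ^ 2 ≠ 0 := by rw [hG]; positivity
  have hhd : ∀ k, 1 ≤ k → k < d →
      h k = (v (2 * k - 1) + u (2 * k)) + (v (2 * k) + u (2 * k + 1)) := fun k h1 h2 => by
    simp only [hh, hseq, if_neg (by omega : ¬k = 0), if_pos h2]
  have hhlast : h d = v (2 * d - 1) + u (2 * d) := by
    simp only [hh, hseq, if_neg (by omega : ¬d = 0), lt_irrefl, if_false, if_pos]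
  have hh0 : h 0 = v 0 + u 1 := by simp only [hh, hseq, if_pos]
  have hrec : ∀ k, k ≤ d → (1 + S) * T * h k =
      bb k • h (k - 1) + aa k • h k + cc (k + 1) • h (k + 1) := by
    intro k hk
    rcases eq_or_ne k 0 with rfl | hk0
    · simp only [bb, aa, cc, if_pos, zero_smul, zero_add, Nat.add_eq_zero, one_ne_zero, and_false,
        if_false]
      rcases (show d = 1 ∨ 2 ≤ d by omega) with rfl | hd2
      · rw [hh0, hhlast, L_zero_two hH (by omega), if_neg (lt_irrefl 1)]
      · rw [hh0, hhd 1 le_rfl (by omega), L_zero hH (by omega), if_pos (by omega), one_smul]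
    obtain ⟨j, rfl⟩ : ∃ j, k = j + 1 := ⟨k - 1, by omega⟩
    have hprev : (a : ℝ) • ((1 + S) * u (2 * j) + (b : ℝ) • (v (2 * j) + u (2 * j + 1))) =
        bb (j + 1) • h (j + 1 - 1) := by
      rw [sone_u_cases hH (by omega) j (by omega), Nat.add_sub_cancel]
      rcases eq_or_ne j 0 with rfl | hj0
      · rw [if_pos rfl, hh0]; simp [bb]
      · rw [if_neg hj0, hhd j (by omega) (by omega)]
        simp only [bb, if_neg (by omega : ¬j + 1 = 0), if_neg (by omega : ¬j + 1 = 1),
          if_pos (by omega : j + 1 ≤ d)]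
    rcases (show j + 1 = d ∨ j + 2 = d ∨ j + 2 < d by omega) with hd' | hd' | hd'
    · have hnext : h (j + 1 + 1) = 0 := by
        simp only [hh, hseq]
        rw [if_neg (by omega), if_neg (by omega), if_neg (by omega)]
      rw [hnext, smul_zero, add_zero, ← hprev]
      have hk1 : h (j + 1) = v (2 * j + 1) + u (2 * j + 2) := by
        rw [hd', hhlast, show 2 * d - 1 = 2 * j + 1 by omega, show 2 * d = 2 * j + 2 by omega]
      rw [hk1, L_even_top hH (show 2 * j + 2 = m by omega)]
      congr 2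
      simp only [aa, if_neg (by omega : ¬j + 1 = 0), if_neg (by omega : ¬j + 1 < d)]
    · have hk1 : h (j + 1) = (v (2 * j + 1) + u (2 * j + 2)) + (v (2 * j + 2) + u (2 * j + 3)) := by
        rw [hhd _ (by omega) (by omega)]
        rfl
      have hk2 : h (j + 1 + 1) = v (2 * j + 3) + u (2 * j + 4) := by
        rw [show j + 1 + 1 = d by omega, hhlast, show 2 * d - 1 = 2 * j + 3 by omega,
          show 2 * d = 2 * j + 4 by omega]
      rw [← hprev, hk1, hk2, L_even_pre hH (show 2 * j + 4 = m by omega)]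
      simp only [aa, cc, if_neg (by omega : ¬j + 1 = 0), if_neg (by omega : ¬j + 1 + 1 = 0),
        if_pos (by omega : j + 1 < d), if_neg (by omega : ¬j + 1 + 1 < d)]
    · have hk1 : h (j + 1) = (v (2 * j + 1) + u (2 * j + 2)) + (v (2 * j + 2) + u (2 * j + 3)) := by
        rw [hhd _ (by omega) (by omega)]
        rfl
      have hk2 : h (j + 1 + 1) =
          (v (2 * j + 3) + u (2 * j + 4)) + (v (2 * j + 4) + u (2 * j + 5)) := by
        rw [hhd _ (by omega) (by omega)]
        rfl
      rw [← hprev, hk1, hk2, L_inner hH (show 2 * j + 4 < m by omega)]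
      simp only [aa, cc, if_neg (by omega : ¬j + 1 = 0), if_neg (by omega : ¬j + 1 + 1 = 0),
        if_pos (by omega : j + 1 < d), if_pos (by omega : j + 1 + 1 < d), one_smul]
  have hreq : ∀ k, k ≤ d → lam * r k = cc k * r (k - 1) + aa k * r k + bb (k + 1) * r (k + 1) := by
    intro k hk
    rcases eq_or_ne k 0 with rfl | hk0
    · simp only [hr, cc, aa, bb, if_pos, zf_zero, zf_one, zero_add, zero_mul, one_ne_zero,
        if_false, pow_zero, pow_one, div_one, mul_one, hlam]
      field_simp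
      have hBs' : B * sin θ * ((b : ℝ) + 1) * w = ((a : ℝ) - 1) * b + ((b : ℝ) - 1) * cos θ * w := by
        rw [hBs]; field_simp
      have key : w * ((a : ℝ) * (b + 1) * (cos θ + B * sin θ)) =
          w * (((a : ℝ) - 1 + 2 * w * cos θ) * w) := by
        linear_combination (a : ℝ) * hBs' - ((a : ℝ) - 1 + 2 * w * cos θ) * hw2
      linear_combination -(mul_left_cancel₀ hw0.ne' key)
    obtain ⟨k, rfl⟩ : ∃ k', k = k' + 1 := ⟨k - 1, by omega⟩
    rcases (show k + 1 = d ∨ k + 1 < d by omega) with hd' | hd'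
    · have e1 : zf θ B (k + 1) = (-1) ^ i := by rw [hd']; exact hzd
      have e2 : zf θ B k = (-1) ^ i * (cos θ - B * sin θ) := by
        rw [show k = d - 1 by omega]; exact hzd1
      simp only [hr, cc, aa, bb, hlam, Nat.add_sub_cancel, if_neg (by omega : ¬k + 1 = 0),
        if_neg (by omega : ¬k + 1 < d), if_neg (by omega : ¬k + 1 + 1 = 0),
        if_neg (by omega : ¬k + 1 + 1 = 1), if_neg (by omega : ¬k + 1 + 1 ≤ d), zero_mul, add_zero,
        e1, e2, pow_succ]
      have hBs' : B * sin θ * ((b : ℝ) + 1) * w = ((a : ℝ) - 1) * b + ((b : ℝ) - 1) * cos θ * w := by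
        rw [hBs]; field_simp
      field_simp
      linear_combination hBs'
    · simp only [hr, cc, aa, bb, hlam, Nat.add_sub_cancel, if_neg (by omega : ¬k + 1 = 0),
        if_pos hd', if_neg (by omega : ¬k + 1 + 1 = 0), if_neg (by omega : ¬k + 1 + 1 = 1),
        if_pos (by omega : k + 1 + 1 ≤ d), zf_rec, pow_succ]
      field_simp
      linear_combination (2 * cos θ * zf θ B (k + 1) - zf θ B k) * hw2
  obtain ⟨f, hf⟩ := exists_multiplicity ((1 + S) * T) h d ((b : ℝ) + 1) lam cc aa bb vv r hrec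
    (by simp only [hh, hseq]; rw [if_neg (by omega), if_neg (by omega), if_neg (by omega)])
    (by simp [bb]) (by simp only [bb]; rw [if_neg (by omega), if_neg (by omega), if_neg (by omega)])
    (by simp [cc]) hreq (by simp [hr, zf_zero]) (by simp [hvv])
    (fun k hk => by
      simp only [cc, bb, hvv, if_neg (by omega : ¬k + 1 = 0)]
      rcases eq_or_ne k 0 with rfl | hk0
      · simp only [zero_add, if_pos, mul_one]
        rcases (show d = 1 ∨ 1 < d by omega) with rfl | hd1
        · simp only [lt_irrefl, if_false, mul_one, hw2]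
          field_simp
        · simp only [if_pos hd1, one_mul, mul_one, hw2]
          field_simp
      · simp only [if_neg hk0, if_pos hk, if_neg (by omega : ¬k + 1 = 1),
          if_pos (by omega : k + 1 ≤ d)]
        rcases (show k + 1 = d ∨ k + 1 < d by omega) with hd' | hd'
        · simp only [if_neg (by omega : ¬k + 1 < d), mul_add 2 k 1, pow_add, mul_one, hw2]
          field_simp
        · simp only [if_pos hd', one_mul, mul_add 2 k 1, pow_add, mul_one, hw2]
          field_simp)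
    (fun k hk => by
      simp only [cc, if_neg (by omega : ¬k + 1 = 0)]
      split_ifs <;> positivity)
    (fun k hk => by
      rw [hh0, ← sone_eq hH (by omega)]
      rcases eq_or_ne k 0 with rfl | hk0
      · rw [hh0, sone_w hH (by omega)]
      rcases (show k = d ∨ k < d by omega) with rfl | hk'
      · rw [hhlast]
        have := sone_w hH (show 2 * k - 1 < m by omega)
        rwa [show 2 * k - 1 + 1 = 2 * k by omega] at this
      · rw [hhd k (by omega) hk', mul_add]
        have e1 := sone_w hH (show 2 * k - 1 < m by omega)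
        rw [show 2 * k - 1 + 1 = 2 * k by omega] at e1
        rw [e1, sone_w hH (show 2 * k < m by omega), ← smul_add])
    (by positivity) (by rw [hh0]; exact trace_w0 hH (by omega))
    (fun k h1 hk => by
      rcases (show k = d ∨ k < d by omega) with rfl | hk'
      · rw [hhlast]
        have := trace_w hH (show 1 ≤ 2 * k - 1 by omega) (by omega)
        rwa [show 2 * k - 1 + 1 = 2 * k by omega] at this
      · rw [hhd k h1 hk', Matrix.trace_add]
        have e1 := trace_w hH (show 1 ≤ 2 * k - 1 by omega) (by omega)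
        rw [show 2 * k - 1 + 1 = 2 * k by omega] at e1
        rw [e1, trace_w hH (show 1 ≤ 2 * k by omega) (by omega), add_zero])
    hGne
  rw [hG] at hf
  have hN : (Fintype.card V : ℝ) ≠ 0 := by exact_mod_cast Fintype.card_ne_zero
  have hf0 : (f : ℝ) ≠ 0 := fun h0 => hN (by rw [← hf, h0, mul_zero])
  let ρ : ℚ := (Fintype.card V : ℚ) * (2 * b) / (((b : ℚ) + 1) ^ 2 * d * f)
  have hρ : (ρ : ℝ) = 1 + B ^ 2 := by
    simp only [ρ]
    push_cast
    rw [← hf]
    field_simp
  refine ⟨ρ, ?_, ?_⟩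
  · have : (1 : ℝ) ≤ (ρ : ℝ) := by rw [hρ]; nlinarith [sq_nonneg B]
    exact_mod_cast this
  · simp only
    have hBs' : B * sin θ * ((b : ℝ) + 1) * w = ((a : ℝ) - 1) * b + ((b : ℝ) - 1) * cos θ * w := by
      rw [hBs]; field_simp
    rw [hρ]
    linear_combination (B * sin θ * ((b : ℝ) + 1) * w + ((a : ℝ) - 1) * b + ((b : ℝ) - 1) * cos θ * w)
      * hBs' - (B ^ 2 * ((b : ℝ) + 1) ^ 2) * hw2 - (B ^ 2 * ((b : ℝ) + 1) ^ 2 * w ^ 2) *
      sin_sq_add_cos_sq θ

/-- Odd diameter with equal parameters: `cos (2π/m)` is rational. -/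
theorem odd_rational (hH : HeckeRel m a b S T u v) {d : ℕ} (hm : m = 2 * d + 1) (hd : 1 ≤ d)
    (ha : 2 ≤ a) (hab : a = b) : ∃ y : ℚ, (y : ℝ) = cos (2 * π / m) := by
  subst hab
  set θ := 2 * π / m with hθ
  set q := (a : ℝ) with hq
  have hq2 : (2 : ℝ) ≤ q := by rw [hq]; exact_mod_cast ha
  have hq0 : 0 < q := by linarith
  have hm0 : (0 : ℝ) < m := by exact_mod_cast (by omega : 0 < m)
  have hsin : 0 < sin θ := by
    refine sin_pos_of_pos_of_lt_pi (by positivity) ?_
    rw [hθ, div_lt_iff₀ hm0]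
    have : (3 : ℝ) ≤ m := by exact_mod_cast (by omega : 3 ≤ m)
    nlinarith [pi_pos]
  set B := (q - 1) * (1 + cos θ) / ((q + 1) * sin θ) with hB
  have hBs : B * sin θ * (q + 1) = (q - 1) * (1 + cos θ) := by rw [hB]; field_simp
  clear_value B
  clear hB
  set r : ℕ → ℝ := fun k => zf θ B k / q ^ k with hr
  set cc : ℕ → ℝ := fun k => if k = 0 then 0 else 1
  set aa : ℕ → ℝ := fun k => if k = 0 then 0 else if k < d then q - 1 else q - 1 + q * q
  set bb : ℕ → ℝ := fun k => if k = 0 then 0 else if k = 1 then q * (q + 1)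
    else if k ≤ d then q * q else 0
  set vv : ℕ → ℝ := fun k => if k = 0 then 1 else (q + 1) / q * q ^ (2 * k) with hvv
  set h : ℕ → Matrix V V ℝ :=
    hseq u v d ((v (2 * d - 1) + u (2 * d)) + (v (2 * d) + u (2 * d + 1))) with hh
  have hhd : ∀ k, 1 ≤ k → k ≤ d →
      h k = (v (2 * k - 1) + u (2 * k)) + (v (2 * k) + u (2 * k + 1)) := fun k h1 h2 => by
    simp only [hh, hseq, if_neg (by omega : ¬k = 0)]
    rcases (show k = d ∨ k < d by omega) with rfl | hk
    · simp
    · simp [hk]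
  have hh0 : h 0 = v 0 + u 1 := by simp only [hh, hseq, if_pos]
  -- boundary values of the sequence
  have hdθ : (d : ℝ) * θ = π - θ / 2 := by
    rw [hθ, hm]; push_cast; field_simp; ring
  have hzd1 : zf θ B (d + 1) = q * zf θ B d := by
    have e2 : ((d + 1 : ℕ) : ℝ) * θ = θ / 2 + π := by push_cast; rw [add_mul, hdθ]; ring
    rw [zf, zf, e2, hdθ, cos_pi_sub, sin_pi_sub, cos_add_pi, sin_add_pi]
    have hc2 : cos θ = 2 * cos (θ / 2) ^ 2 - 1 := by rw [← cos_two_mul]; ring_nf
    have hs2 : sin θ = 2 * sin (θ / 2) * cos (θ / 2) := by rw [← sin_two_mul]; ring_nf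
    have hc0 : cos (θ / 2) ≠ 0 := fun h0 => by rw [hs2, h0, mul_zero] at hsin; exact lt_irrefl _ hsin
    have key : cos (θ / 2) * (B * sin (θ / 2) * (q + 1)) = cos (θ / 2) * ((q - 1) * cos (θ / 2)) := by
      have := hBs
      rw [hc2, hs2] at this
      linear_combination this / 2
    linear_combination -(mul_left_cancel₀ hc0 key)
  have hG : ∑ k ∈ Finset.range (d + 1), vv k * r k ^ 2 = (q + 1) * m * (1 + B ^ 2) / (4 * q) := by
    have hterm : ∀ k, vv k * r k ^ 2 =
        (q + 1) / q * zf θ B k ^ 2 - (if k = 0 then 1 / q else 0) := by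
      intro k
      rcases eq_or_ne k 0 with rfl | hk0
      · simp only [hvv, hr, if_pos, zf_zero]
        field_simp
        ring
      · simp only [hvv, hr, if_neg hk0, div_pow, ← pow_mul, mul_comm k 2, sub_zero]
        field_simp
    rw [Finset.sum_congr rfl fun k _ => hterm k, Finset.sum_sub_distrib,
      Finset.sum_ite_eq' (Finset.range (d + 1)) 0, if_pos (by simp), ← Finset.mul_sum]
    have hs := sum_zf_sq θ B (d + 1)
    have h2dθ : (2 * ((d + 1 : ℕ) : ℝ) - 1) * θ = 2 * π := by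
      rw [hθ, hm]; push_cast; field_simp; ring
    rw [h2dθ, sin_two_pi, cos_two_pi] at hs
    have key : ∑ k ∈ Finset.range (d + 1), zf θ B k ^ 2 =
        ((d + 1 : ℕ) : ℝ) * (1 + B ^ 2) / 2 + (1 - B ^ 2) / 4 - (q - 1) / (2 * (q + 1)) := by
      have h1 : B * (cos θ - 1) * (q + 1) = -((q - 1) * sin θ) := by
        apply mul_left_cancel₀ hsin.ne'
        linear_combination (cos θ - 1) * hBs + (q - 1) * sin_sq_add_cos_sq θ
      have hu : (q - 1) / (2 * (q + 1)) * (2 * (q + 1)) = q - 1 := div_mul_cancel₀ _ (by positivity)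
      apply mul_left_cancel₀ (show 2 * sin θ * (q + 1) ≠ 0 by positivity)
      push_cast at hs ⊢
      linear_combination (q + 1) * hs + h1 + sin θ * hu
    rw [key, show (m : ℝ) = 2 * d + 1 by rw [hm]; push_cast; ring]
    push_cast
    field_simp
    ring
  have hrec : ∀ k, k ≤ d → (1 + S) * T * h k =
      bb k • h (k - 1) + aa k • h k + cc (k + 1) • h (k + 1) := by
    intro k hk
    rcases eq_or_ne k 0 with rfl | hk0
    · simp only [bb, aa, cc, if_pos, zero_smul, zero_add, one_ne_zero, if_false, one_smul]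
      rw [hh0, hhd 1 le_rfl hd, L_zero hH (by omega)]
    obtain ⟨j, rfl⟩ : ∃ j, k = j + 1 := ⟨k - 1, by omega⟩
    have hprev : q • ((1 + S) * u (2 * j) + q • (v (2 * j) + u (2 * j + 1))) =
        bb (j + 1) • h (j + 1 - 1) := by
      rw [hq, sone_u_cases hH (by omega) j (by omega), Nat.add_sub_cancel]
      rcases eq_or_ne j 0 with rfl | hj0
      · rw [if_pos rfl, hh0]; simp [bb, hq]
      · rw [if_neg hj0, hhd j (by omega) (by omega)]
        simp only [bb, hq, if_neg (by omega : ¬j + 1 = 0), if_neg (by omega : ¬j + 1 = 1),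
          if_pos (by omega : j + 1 ≤ d)]
    have hk1 : h (j + 1) = (v (2 * j + 1) + u (2 * j + 2)) + (v (2 * j + 2) + u (2 * j + 3)) := by
      rw [hhd _ (by omega) (by omega)]
      rfl
    rcases (show j + 1 = d ∨ j + 2 ≤ d by omega) with hd' | hd'
    · have hnext : h (j + 1 + 1) = 0 := by
        simp only [hh, hseq]
        rw [if_neg (by omega), if_neg (by omega), if_neg (by omega)]
      rw [hnext, smul_zero, add_zero, ← hprev, hk1, L_odd_top hH (show 2 * j + 3 = m by omega)]
      simp only [aa, hq, if_neg (by omega : ¬j + 1 = 0), if_neg (by omega : ¬j + 1 < d)]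
    · have hk2 : h (j + 1 + 1) =
          (v (2 * j + 3) + u (2 * j + 4)) + (v (2 * j + 4) + u (2 * j + 5)) := by
        rw [hhd _ (by omega) (by omega)]
        rfl
      rw [← hprev, hk1, hk2, L_inner hH (show 2 * j + 4 < m by omega)]
      simp only [aa, cc, hq, if_neg (by omega : ¬j + 1 = 0), if_neg (by omega : ¬j + 1 + 1 = 0),
        if_pos (by omega : j + 1 < d), one_smul]
  set lam := q - 1 + 2 * q * cos θ with hlam
  have hreq : ∀ k, k ≤ d → lam * r k = cc k * r (k - 1) + aa k * r k + bb (k + 1) * r (k + 1) := by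
    intro k hk
    rcases eq_or_ne k 0 with rfl | hk0
    · simp only [hr, cc, aa, bb, if_pos, zf_zero, zf_one, zero_add, zero_mul, one_ne_zero,
        if_false, pow_zero, pow_one, div_one, mul_one, hlam]
      field_simp
      linear_combination -hBs
    obtain ⟨k, rfl⟩ : ∃ k', k = k' + 1 := ⟨k - 1, by omega⟩
    rcases (show k + 1 = d ∨ k + 1 < d by omega) with hd' | hd'
    · have e := zf_rec θ B k
      rw [show k + 2 = d + 1 by omega, hzd1, ← hd'] at e
      simp only [hr, cc, aa, bb, hlam, Nat.add_sub_cancel, if_neg (by omega : ¬k + 1 = 0),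
        if_neg (by omega : ¬k + 1 < d), if_neg (by omega : ¬k + 1 + 1 = 0),
        if_neg (by omega : ¬k + 1 + 1 = 1), if_neg (by omega : ¬k + 1 + 1 ≤ d), zero_mul, add_zero,
        pow_succ]
      field_simp
      linear_combination (-q) * e
    · simp only [hr, cc, aa, bb, hlam, Nat.add_sub_cancel, if_neg (by omega : ¬k + 1 = 0),
        if_pos hd', if_neg (by omega : ¬k + 1 + 1 = 0), if_neg (by omega : ¬k + 1 + 1 = 1),
        if_pos (by omega : k + 1 + 1 ≤ d), zf_rec, pow_succ]
      field_simp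
      ring
  obtain ⟨f, hf⟩ := exists_multiplicity ((1 + S) * T) h d (q + 1) lam cc aa bb vv r hrec
    (by simp only [hh, hseq]; rw [if_neg (by omega), if_neg (by omega), if_neg (by omega)])
    (by simp [bb]) (by simp only [bb]; rw [if_neg (by omega), if_neg (by omega), if_neg (by omega)])
    (by simp [cc]) hreq (by simp [hr, zf_zero]) (by simp [hvv])
    (fun k hk => by
      simp only [cc, bb, hvv, if_neg (by omega : ¬k + 1 = 0), one_mul]
      rcases eq_or_ne k 0 with rfl | hk0
      · simp only [zero_add, if_pos, mul_one]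
        field_simp
      · simp only [if_neg hk0, if_neg (by omega : ¬k + 1 = 1), if_pos (by omega : k + 1 ≤ d),
          mul_add 2 k 1, pow_add, mul_one]
        field_simp)
    (fun k hk => by simp [cc])
    (fun k hk => by
      rw [hh0, ← sone_eq hH (by omega), hq]
      rcases eq_or_ne k 0 with rfl | hk0
      · rw [hh0, sone_w hH (by omega)]
      · rw [hhd k (by omega) hk, mul_add]
        have e1 := sone_w hH (show 2 * k - 1 < m by omega)
        rw [show 2 * k - 1 + 1 = 2 * k by omega] at e1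
        rw [e1, sone_w hH (show 2 * k < m by omega), ← smul_add])
    (by positivity) (by rw [hh0]; exact trace_w0 hH (by omega))
    (fun k h1 hk => by
      rw [hhd k h1 hk, Matrix.trace_add]
      have e1 := trace_w hH (show 1 ≤ 2 * k - 1 by omega) (by omega)
      rw [show 2 * k - 1 + 1 = 2 * k by omega] at e1
      rw [e1, trace_w hH (show 1 ≤ 2 * k by omega) (by omega), add_zero])
    (by rw [hG]; positivity)
  rw [hG] at hf
  have hN : (Fintype.card V : ℝ) ≠ 0 := by exact_mod_cast Fintype.card_ne_zero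
  have hf0 : (f : ℝ) ≠ 0 := fun h0 => hN (by rw [← hf, h0, mul_zero])
  let ρ : ℚ := (Fintype.card V : ℚ) * (4 * a) / (((a : ℚ) + 1) ^ 2 * m * f)
  have hρ : (ρ : ℝ) = 1 + B ^ 2 := by
    simp only [ρ]
    push_cast
    rw [← hf, ← hq]
    field_simp
  refine ⟨((ρ - 1) * ((a : ℚ) + 1) ^ 2 - ((a : ℚ) - 1) ^ 2) /
    ((ρ - 1) * ((a : ℚ) + 1) ^ 2 + ((a : ℚ) - 1) ^ 2), ?_⟩
  push_cast
  rw [hρ, ← hq, div_eq_iff (by
    have : 0 < (q - 1) ^ 2 := by nlinarith
    have : 0 ≤ (1 + B ^ 2 - 1) * (q + 1) ^ 2 := mul_nonneg (by nlinarith [sq_nonneg B]) (sq_nonneg _)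
    linarith)]
  have hcpos : 0 < 1 + cos θ := by nlinarith [sin_sq_add_cos_sq θ, neg_one_le_cos θ, hsin]
  have hBc : B ^ 2 * (q + 1) ^ 2 * (1 - cos θ) = (q - 1) ^ 2 * (1 + cos θ) := by
    apply mul_left_cancel₀ hcpos.ne'
    linear_combination (B * sin θ * (q + 1) + (q - 1) * (1 + cos θ)) * hBs -
      B ^ 2 * (q + 1) ^ 2 * sin_sq_add_cos_sq θ
  linear_combination hBc

/-- The Feit–Higman restriction. -/
theorem diameter_cases (hH : HeckeRel m a b S T u v) (hm : 2 ≤ m) (ha : 2 ≤ a) (hb : 2 ≤ b)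
    (hodd : Odd m → a = b) : m = 2 ∨ m = 3 ∨ m = 4 ∨ m = 6 ∨ m = 8 := by
  rcases Nat.even_or_odd' m with ⟨d, rfl | rfl⟩
  · rcases (show d = 1 ∨ 2 ≤ d by omega) with rfl | hd
    · omega
    obtain ⟨y, hy⟩ := even_rational hH rfl (by omega) ha hb (j := 1) le_rfl (by omega)
    have hab : (0 : ℝ) < a * b := by
      have : (0 : ℝ) < a := by exact_mod_cast (by omega : 0 < a)
      have : (0 : ℝ) < b := by exact_mod_cast (by omega : 0 < b)
      positivity
    have hc : ∃ c : ℚ, cos (((2 / d : ℚ) : ℝ) * π) = c := by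
      refine ⟨2 * (y ^ 2 / (a * b)) - 1, ?_⟩
      push_cast
      rw [hy, mul_pow, sq_sqrt hab.le, mul_div_cancel_left₀ _ hab.ne', ← cos_two_mul]
      congr 1
      simp; ring
    have hd0 : (0 : ℚ) < d := by exact_mod_cast (by omega : 0 < d)
    have hd2 : (2 : ℚ) ≤ d := by exact_mod_cast hd
    have h := niven_angle_div_pi_eq hc ⟨by positivity, by rw [div_le_one hd0]; linarith⟩
    simp only [Set.mem_insert_iff, Set.mem_singleton_iff] at h
    rcases h with h | h | h | h | h <;> rw [div_eq_iff hd0.ne'] at h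
    · norm_num at h
    · exfalso
      have hd6 : d = 6 := by
        have : (d : ℚ) = 6 := by linarith
        exact_mod_cast this
      subst hd6
      obtain ⟨y2, hy2⟩ := even_rational hH rfl (by omega) ha hb (j := 2) (by norm_num) (by norm_num)
      have e1 : cos (π * ((1 : ℕ) : ℝ) / (6 : ℕ)) = √3 / 2 := by
        rw [← cos_pi_div_six]; congr 1; norm_num
      have e2 : cos (π * ((2 : ℕ) : ℝ) / (6 : ℕ)) = 1 / 2 := by
        rw [← cos_pi_div_three]; congr 1; norm_num; ring
      rw [e1] at hy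
      rw [e2] at hy2
      refine Nat.Prime.irrational_sqrt Nat.prime_three ⟨y / y2, ?_⟩
      push_cast
      rw [hy, hy2]
      field_simp
    · have : (d : ℚ) = 4 := by linarith
      have : d = 4 := by exact_mod_cast this
      omega
    · have : (d : ℚ) = 3 := by linarith
      have : d = 3 := by exact_mod_cast this
      omega
    · have : (d : ℚ) = 2 := by linarith
      have : d = 2 := by exact_mod_cast this
      omega
  · obtain ⟨y, hy⟩ := odd_rational hH rfl (by omega) ha (hodd ⟨d, rfl⟩)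
    have hc : ∃ c : ℚ, cos (((2 / (2 * d + 1 : ℕ) : ℚ) : ℝ) * π) = c := by
      refine ⟨y, ?_⟩
      rw [hy]; congr 1
      push_cast; ring
    have hm3 : (3 : ℚ) ≤ (2 * d + 1 : ℕ) := by exact_mod_cast (by omega : 3 ≤ 2 * d + 1)
    have hm0 : (0 : ℚ) < (2 * d + 1 : ℕ) := by linarith
    have h := niven_angle_div_pi_eq hc ⟨by positivity, by rw [div_le_one hm0]; linarith⟩
    simp only [Set.mem_insert_iff, Set.mem_singleton_iff] at h
    rcases h with h | h | h | h | h <;> rw [div_eq_iff hm0.ne'] at h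
    · norm_num at h
    · have : ((2 * d + 1 : ℕ) : ℚ) = ((6 : ℕ) : ℚ) := by push_cast at h ⊢; linarith
      have := Nat.cast_injective this
      omega
    · have : ((2 * d + 1 : ℕ) : ℚ) = ((4 : ℕ) : ℚ) := by push_cast at h ⊢; linarith
      have := Nat.cast_injective this
      omega
    · have : ((2 * d + 1 : ℕ) : ℚ) = ((3 : ℕ) : ℚ) := by push_cast at h ⊢; linarith
      have := Nat.cast_injective this
      omega
    · linarith

end Cfsg.Agent.FeitHigman
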