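import Mathlib
import Cfsg.Agent.Lib.BNPair.Basic
import Cfsg.Agent.Lib.BNPair.Parabolic
import Cfsg.Agent.Lib.FeitHigman.Main

/-!
Hecke relations of a rank two (B,N)-pair and the Feit–Higman theorem.
-/

set_option autoImplicit false

namespace Cfsg.Agent.FeitHigman

open Cfsg.Agent.BN

variable {G : Type*} [Group G] [Finite G] (P : Cfsg.BNPair G)

/-- The number of cosets of `B` in a double coset. -/
noncomputable def deg (g : G) : ℕ := Nat.card {y : G ⧸ P.B // y.out ∈ cell P g}

open Classical in
/-- The operator of a double coset. -/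
noncomputable def opT (g : G) : Matrix (G ⧸ P.B) (G ⧸ P.B) ℝ :=
  fun x y => if x.out⁻¹ * y.out ∈ cell P g then 1 else 0

omit [Finite G] in
lemma out_rel (x : G) : ∃ c ∈ P.B, (x : G ⧸ P.B).out = x * c := by
  obtain ⟨⟨c, hc⟩, h⟩ := QuotientGroup.mk_out_eq_mul P.B x
  exact ⟨c, hc, h⟩

omit [Finite G] in
lemma out_mem_iff (g x y : G) :
    ((x : G ⧸ P.B).out⁻¹ * (y : G ⧸ P.B).out ∈ cell P g) ↔ x⁻¹ * y ∈ cell P g := by
  obtain ⟨c, hc, h1⟩ := out_rel P x
  obtain ⟨d, hd, h2⟩ := out_rel P y
  rw [h1, h2]
  constructor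
  · intro h
    have := mul_mem_cell_right P (P.B.inv_mem hd) (mul_mem_cell_left P hc h)
    rwa [show c * ((x * c)⁻¹ * (y * d)) * d⁻¹ = x⁻¹ * y by group] at this
  · intro h
    have := mul_mem_cell_right P hd (mul_mem_cell_left P (P.B.inv_mem hc) h)
    rwa [show c⁻¹ * (x⁻¹ * y) * d = (x * c)⁻¹ * (y * d) by group] at this

omit [Finite G] in
lemma opT_congr {g g' : G} (h : Eqv P g g') : opT P g = opT P g' := by
  funext x y
  simp only [opT]
  rw [cell_congr P (g := g) (h := g') h]

omit [Finite G] in
lemma opT_one [DecidableEq (G ⧸ P.B)] : opT P 1 = 1 := by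
  classical
  funext x y
  induction x using QuotientGroup.induction_on with | _ x => ?_
  induction y using QuotientGroup.induction_on with | _ y => ?_
  simp only [opT, out_mem_iff, cell_one, Matrix.one_apply, QuotientGroup.eq]

omit [Finite G] in
lemma opT_trace [Fintype (G ⧸ P.B)] {g : G} (hg : g ∉ P.B) : (opT P g).trace = 0 := by
  refine Finset.sum_eq_zero fun x _ => ?_
  have : x.out⁻¹ * x.out ∉ cell P g := by
    rw [inv_mul_cancel]
    intro h
    have h2 : g ∈ cell P 1 := cell_eq_of_mem P h ▸ self_mem_cell P g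
    exact hg ((cell_one P).1 h2)
  simp only [Matrix.diag, opT, if_neg this]

omit [Finite G] in
lemma deg_congr {g g' : G} (h : Eqv P g g') : deg P g = deg P g' := by
  simp only [deg]
  rw [cell_congr P (g := g) (h := g') h]

lemma deg_one : deg P 1 = 1 := by
  rw [deg, Nat.card_eq_one_iff_unique]
  refine ⟨⟨fun a b => Subtype.ext ?_⟩, ⟨((1 : G) : G ⧸ P.B), ?_⟩⟩
  · rw [← QuotientGroup.out_eq' a.1, ← QuotientGroup.out_eq' b.1, QuotientGroup.eq]
    exact P.B.mul_mem (P.B.inv_mem ((cell_one P).1 a.2)) ((cell_one P).1 b.2)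
  · obtain ⟨c, hc, h⟩ := out_rel P 1
    rw [h, one_mul]; exact (cell_one P).2 hc

open Classical in
lemma row_sum [Fintype (G ⧸ P.B)] (g : G) (x : G) :
    (Finset.univ.filter fun y : G ⧸ P.B => x⁻¹ * y.out ∈ cell P g).card = deg P g := by
  rw [deg, Nat.card_eq_fintype_card, ← Fintype.card_subtype]
  refine Fintype.card_congr (Equiv.subtypeEquiv (MulAction.toPerm (α := G) x⁻¹) fun y => ?_)
  induction y using QuotientGroup.induction_on with | _ y => ?_
  show x⁻¹ * (y : G ⧸ P.B).out ∈ cell P g ↔ ((x⁻¹ * y : G) : G ⧸ P.B).out ∈ cell P g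
  obtain ⟨c, hc, h1⟩ := out_rel P y
  obtain ⟨d, hd, h2⟩ := out_rel P (x⁻¹ * y)
  rw [h1, h2]
  constructor
  · intro h
    have := mul_mem_cell_right P hd (mul_mem_cell_right P (P.B.inv_mem hc) h)
    rwa [show x⁻¹ * (y * c) * c⁻¹ * d = x⁻¹ * y * d by group] at this
  · intro h
    have := mul_mem_cell_right P hc (mul_mem_cell_right P (P.B.inv_mem hd) h)
    rwa [show x⁻¹ * y * d * d⁻¹ * c = x⁻¹ * (y * c) by group] at this

open Classical in
lemma mul_apply_card [Fintype (G ⧸ P.B)] (g h : G) (x z : G ⧸ P.B) :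
    (opT P g * opT P h) x z = ((Finset.univ.filter fun y : G ⧸ P.B =>
      x.out⁻¹ * y.out ∈ cell P g ∧ y.out⁻¹ * z.out ∈ cell P h).card : ℝ) := by
  rw [Matrix.mul_apply, ← Finset.sum_boole]
  refine Finset.sum_congr rfl fun y _ => ?_
  simp only [opT, ite_mul, one_mul, zero_mul]
  split_ifs <;> simp_all

/-- Lengths add: the operators multiply. -/
lemma opT_mul [Fintype (G ⧸ P.B)] {s n : G} (hs : s ∈ P.S) (hn : n ∈ P.N)
    (hl : len P n < len P (s * n)) : opT P s * opT P n = opT P (s * n) := by
  classical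
  ext x z
  rw [mul_apply_card]
  have hmem : ∀ p r, p ∈ cell P s → r ∈ cell P n → p * r ∈ cell P (s * n) := by
    intro p r hp hr
    obtain ⟨c, hc, d, hd, rfl⟩ := (mem_cell P).1 hp
    obtain ⟨e, he, f, hf, rfl⟩ := (mem_cell P).1 hr
    have h1 := mul_mem_cell_right P hf (mul_mem_cell_left P hc
      (mul_mem_cell_of_len_le P hs hn (P.B.mul_mem hd he) hl.le))
    rwa [show c * (s * (d * e) * n) * f = c * s * d * (e * n * f) by group] at h1
  simp only [opT]
  split_ifs with h
  · norm_cast
    rw [Finset.card_eq_one]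
    obtain ⟨b1, hb1, b2, hb2, hbe⟩ := (mem_cell P).1 h
    refine ⟨((x.out * b1 * s : G) : G ⧸ P.B), ?_⟩
    ext y
    simp only [Finset.mem_filter, Finset.mem_univ, true_and, Finset.mem_singleton]
    constructor
    · intro ⟨hy1, hy2⟩
      obtain ⟨c, hc, h1⟩ := out_rel P (x.out * b1 * s)
      have hw1 : x.out⁻¹ * (x.out * b1 * s) ∈ cell P s := by
        rw [show x.out⁻¹ * (x.out * b1 * s) = b1 * s by group]
        exact mul_mem_cell_left P hb1 (self_mem_cell P s)
      have hw2 : (x.out * b1 * s)⁻¹ * z.out ∈ cell P n := by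
        rw [show (x.out * b1 * s)⁻¹ * z.out = (b1 * s)⁻¹ * (x.out⁻¹ * z.out) by group, hbe,
          show (b1 * s)⁻¹ * (b1 * (s * n) * b2) = n * b2 by group]
        exact mul_mem_cell_right P hb2 (self_mem_cell P n)
      -- the quotient lies in `B ∪ BsB`, but not in `BsB`
      have hinv : (x.out⁻¹ * y.out)⁻¹ ∈ cell P s :=
        cell_congr P (eqv_S_inv P hs) ▸ inv_mem_cell P hy1
      have h3 := mul_cell_subset P hs (P.subset hs) hinv hw1
      rw [show (x.out⁻¹ * y.out)⁻¹ * (x.out⁻¹ * (x.out * b1 * s)) = y.out⁻¹ * (x.out * b1 * s) by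
        group] at h3
      rcases h3 with h3 | h3
      · rw [cell_congr P (eqv_sq P hs)] at h3
        rw [← QuotientGroup.out_eq' y]
        exact QuotientGroup.eq.2 ((cell_one P).1 h3)
      · exfalso
        have h4 := hmem _ _ h3 hw2
        rw [show y.out⁻¹ * (x.out * b1 * s) * ((x.out * b1 * s)⁻¹ * z.out) = y.out⁻¹ * z.out by
          group] at h4
        have e := eqv_of_cell_eq P (P.N.mul_mem (P.subset hs) hn) hn
          ((cell_eq_of_mem P h4).symm.trans (cell_eq_of_mem P hy2))
        have := len_congr P e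
        omega
    · rintro rfl
      obtain ⟨c, hc, h1⟩ := out_rel P (x.out * b1 * s)
      rw [h1]
      refine ⟨?_, ?_⟩
      · rw [show x.out⁻¹ * (x.out * b1 * s * c) = b1 * s * c by group]
        exact mul_mem_cell_right P hc (mul_mem_cell_left P hb1 (self_mem_cell P s))
      · rw [show (x.out * b1 * s * c)⁻¹ * z.out = c⁻¹ * ((b1 * s)⁻¹ * (x.out⁻¹ * z.out)) by group,
          hbe, show (b1 * s)⁻¹ * (b1 * (s * n) * b2) = n * b2 by group]
        exact mul_mem_cell_left P (P.B.inv_mem hc) (mul_mem_cell_right P hb2 (self_mem_cell P n))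
  · norm_cast
    rw [Finset.card_eq_zero, Finset.filter_eq_empty_iff]
    intro y _ ⟨hy1, hy2⟩
    refine h ?_
    have := hmem _ _ hy1 hy2
    rwa [show x.out⁻¹ * y.out * (y.out⁻¹ * z.out) = x.out⁻¹ * z.out by group] at this

/-- The quadratic relation. -/
lemma opT_sq [Fintype (G ⧸ P.B)] [DecidableEq (G ⧸ P.B)] {s : G} (hs : s ∈ P.S) :
    opT P s * opT P s = ((deg P s : ℝ) - 1) • opT P s + (deg P s : ℝ) • (1 : Matrix _ _ ℝ) := by
  classical
  ext x z
  rw [mul_apply_card]
  simp only [Matrix.add_apply, Matrix.smul_apply, smul_eq_mul, opT, Matrix.one_apply]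
  have hinv : ∀ {p : G}, p ∈ cell P s → p⁻¹ ∈ cell P s := fun hp =>
    cell_congr P (eqv_S_inv P hs) ▸ inv_mem_cell P hp
  have hprod : ∀ {p r : G}, p ∈ cell P s → r ∈ cell P s → p * r ∈ cell P s ∨ p * r ∈ P.B := by
    intro p r hp hr
    rcases mul_cell_subset P hs (P.subset hs) hp hr with h | h
    · rw [cell_congr P (eqv_sq P hs)] at h
      exact Or.inr ((cell_one P).1 h)
    · exact Or.inl h
  have hdis : ∀ {p : G}, p ∈ cell P s → p ∉ P.B := by
    intro p hp hpB
    have h2 : s ∈ cell P 1 := by
      rw [← cell_eq_of_mem P ((cell_one P).2 hpB), cell_eq_of_mem P hp]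
      exact self_mem_cell P s
    exact S_not_mem_B P hs ((cell_one P).1 h2)
  have hsame : ∀ {p r : G ⧸ P.B}, p.out⁻¹ * r.out ∈ P.B → p = r := by
    intro p r h
    rw [← QuotientGroup.out_eq' p, ← QuotientGroup.out_eq' r]
    exact QuotientGroup.eq.2 h
  rcases eq_or_ne x z with rfl | hxz
  · rw [if_neg (fun h => hdis h (by rw [inv_mul_cancel]; exact P.B.one_mem)), if_pos rfl,
      mul_zero, zero_add, mul_one]
    norm_cast
    rw [← row_sum P s x.out]
    congr 1
    ext y
    simp only [Finset.mem_filter, Finset.mem_univ, true_and]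
    refine ⟨fun h => h.1, fun h => ⟨h, ?_⟩⟩
    have := hinv h
    rwa [mul_inv_rev, inv_inv] at this
  rw [if_neg hxz, mul_zero, add_zero]
  split_ifs with h
  · have hfil : (Finset.univ.filter fun y : G ⧸ P.B =>
        x.out⁻¹ * y.out ∈ cell P s ∧ y.out⁻¹ * z.out ∈ cell P s) =
        (Finset.univ.filter fun y : G ⧸ P.B => x.out⁻¹ * y.out ∈ cell P s).erase z := by
      ext y
      simp only [Finset.mem_filter, Finset.mem_univ, true_and, Finset.mem_erase]
      constructor
      · rintro ⟨h1, h2⟩
        refine ⟨?_, h1⟩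
        rintro rfl
        exact hdis h2 (by rw [inv_mul_cancel]; exact P.B.one_mem)
      · rintro ⟨hne, h1⟩
        refine ⟨h1, ?_⟩
        rcases hprod (hinv h1) h with h3 | h3 <;>
          rw [show (x.out⁻¹ * y.out)⁻¹ * (x.out⁻¹ * z.out) = y.out⁻¹ * z.out by group] at h3
        · exact h3
        · exact absurd (hsame h3) hne
    rw [hfil, Finset.card_erase_of_mem (by simpa using h), row_sum P s x.out, mul_one]
    have : 1 ≤ deg P s := by
      rw [← row_sum P s x.out]
      exact Finset.card_pos.2 ⟨z, by simpa using h⟩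
    rw [Nat.cast_sub this, Nat.cast_one]
  · rw [mul_zero]
    norm_cast
    rw [Finset.card_eq_zero, Finset.filter_eq_empty_iff]
    intro y _ ⟨h1, h2⟩
    rcases hprod h1 h2 with h3 | h3 <;>
      rw [show x.out⁻¹ * y.out * (y.out⁻¹ * z.out) = x.out⁻¹ * z.out by group] at h3
    · exact h h3
    · exact hxz (hsame h3)

lemma two_le_deg {s : G} (hs : s ∈ P.S) : 2 ≤ deg P s := by
  classical
  obtain ⟨b, hb, hc⟩ := exists_mem_cell_S P hs
  have : Fintype (G ⧸ P.B) := Fintype.ofFinite _
  rw [← row_sum P s 1]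
  simp only [inv_one, one_mul]
  refine Finset.one_lt_card.2 ⟨((s : G) : G ⧸ P.B), ?_, ((s * b * s : G) : G ⧸ P.B), ?_, ?_⟩
  · obtain ⟨c, hc', h⟩ := out_rel P s
    simp only [Finset.mem_filter, Finset.mem_univ, true_and, h]
    exact mul_mem_cell_right P hc' (self_mem_cell P s)
  · obtain ⟨c, hc', h⟩ := out_rel P (s * b * s)
    simp only [Finset.mem_filter, Finset.mem_univ, true_and, h]
    exact mul_mem_cell_right P hc' hc
  · intro h
    rw [QuotientGroup.eq, show s⁻¹ * (s * b * s) = b * s by group] at h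
    exact S_not_mem_B P hs (by simpa using P.B.mul_mem (P.B.inv_mem hb) h)

lemma opT_apply_sum [Fintype (G ⧸ P.B)] (g : G) (x : G ⧸ P.B) :
    ∑ y, opT P g x y = (deg P g : ℝ) := by
  classical
  rw [← row_sum P g x.out, ← Finset.sum_boole]
  rfl

/-- Lengths add: the degrees multiply. -/
lemma deg_mul {s n : G} (hs : s ∈ P.S) (hn : n ∈ P.N) (hl : len P n < len P (s * n)) :
    deg P (s * n) = deg P s * deg P n := by
  classical
  have : Fintype (G ⧸ P.B) := Fintype.ofFinite _
  have h := congrArg (fun M : Matrix (G ⧸ P.B) (G ⧸ P.B) ℝ => ∑ z, M ((1 : G) : G ⧸ P.B) z)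
    (opT_mul P hs hn hl)
  simp only [Matrix.mul_apply] at h
  rw [Finset.sum_comm] at h
  simp only [← Finset.mul_sum, opT_apply_sum, ← Finset.sum_mul] at h
  exact_mod_cast h.symm

mutual
/-- The alternating word starting with `s`. -/
def wordU (s t : G) : ℕ → G
  | 0 => 1
  | k + 1 => s * wordV s t k
/-- The alternating word starting with `t`. -/
def wordV (s t : G) : ℕ → G
  | 0 => 1
  | k + 1 => t * wordU s t k
end

omit [Finite G] in
lemma wordU_zero (s t : G) : wordU s t 0 = 1 := by rw [wordU]

omit [Finite G] in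
lemma wordV_zero (s t : G) : wordV s t 0 = 1 := by rw [wordV]

omit [Finite G] in
lemma wordU_succ (s t : G) (k : ℕ) : wordU s t (k + 1) = s * wordV s t k := by rw [wordU]

omit [Finite G] in
lemma wordV_succ (s t : G) (k : ℕ) : wordV s t (k + 1) = t * wordU s t k := by rw [wordV]

omit [Finite G] in
lemma word_mem {s t : G} (hs : s ∈ P.S) (ht : t ∈ P.S) :
    ∀ k, wordU s t k ∈ P.N ∧ wordV s t k ∈ P.N := by
  intro k
  induction k with
  | zero => rw [wordU_zero, wordV_zero]; exact ⟨P.N.one_mem, P.N.one_mem⟩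
  | succ k ih =>
    rw [wordU_succ, wordV_succ]
    exact ⟨P.N.mul_mem (P.subset hs) ih.2, P.N.mul_mem (P.subset ht) ih.1⟩

omit [Finite G] in
lemma word_len_le {s t : G} (hs : s ∈ P.S) (ht : t ∈ P.S) :
    ∀ k, len P (wordU s t k) ≤ k ∧ len P (wordV s t k) ≤ k := by
  intro k
  induction k with
  | zero => rw [wordU_zero, wordV_zero, len_one]; exact ⟨le_rfl, le_rfl⟩
  | succ k ih =>
    rw [wordU_succ, wordV_succ]
    have h1 := len_S_mul_le P hs (word_mem P hs ht k).2
    have h2 := len_S_mul_le P ht (word_mem P hs ht k).1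
    omega

omit [Finite G] in
lemma word_swap (s t : G) : ∀ k, wordU t s k = wordV s t k ∧ wordV t s k = wordU s t k := by
  intro k
  induction k with
  | zero => simp [wordU_zero, wordV_zero]
  | succ k ih =>
    simp only [wordU_succ, wordV_succ, ih, and_self]

omit [Finite G] in
lemma exists_word_eqv {s t : G} (hs : s ∈ P.S) (ht : t ∈ P.S) (hst : ∀ x ∈ P.S, x = s ∨ x = t) :
    ∀ k, ∀ n ∈ P.N, len P n = k → Eqv P n (wordU s t k) ∨ Eqv P n (wordV s t k) := by
  intro k
  induction k with
  | zero =>
    intro n hn h0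
    left
    rw [wordU_zero]
    have := (len_eq_zero P hn).1 h0
    simpa [Eqv] using P.B.inv_mem this
  | succ k ih =>
    intro n hn hk
    obtain ⟨x, hx, n', hn', hl, he⟩ := exists_first P hn (by omega)
    have hlen : len P n' = k := by omega
    have key : ∀ {w : G}, w ∈ P.N → Eqv P n' w → Eqv P n (x * w) := fun _ h =>
      eqv_trans P (eqv_symm P he) (eqv_mul_left P x h)
    rcases eq_or_ne k 0 with rfl | hk0
    · have h1 : Eqv P n (x * 1) := key P.N.one_mem (by
        have := (len_eq_zero P hn').1 hlen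
        simpa [Eqv] using P.B.inv_mem this)
      rcases hst x hx with rfl | rfl
      · left; rwa [wordU_succ, wordV_zero]
      · right; rwa [wordV_succ, wordU_zero]
    obtain ⟨j, rfl⟩ := Nat.exists_eq_succ_of_ne_zero hk0
    have hbad : ∀ w, w ∈ P.N → Eqv P n (x * (x * w)) → len P w < j + 2 → False := by
      intro w hw h hlt
      have := len_congr P (eqv_trans P h (eqv_S_mul_S_mul P hx hw))
      omega
    have hj := word_len_le P hs ht j
    rcases ih n' hn' hlen with h | h
    · have h' := key (word_mem P hs ht _).1 h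
      rw [wordU_succ] at h'
      rcases hst x hx with rfl | rfl
      · exact (hbad _ (word_mem P hs ht _).2 h' (by omega)).elim
      · right; rw [wordV_succ, wordU_succ]; exact h'
    · have h' := key (word_mem P hs ht _).2 h
      rw [wordV_succ] at h'
      rcases hst x hx with rfl | rfl
      · left; rw [wordU_succ, wordV_succ]; exact h'
      · exact (hbad _ (word_mem P hs ht _).1 h' (by omega)).elim

omit [Finite G] in
lemma top_eqv {s t : G} (hs : s ∈ P.S) (ht : t ∈ P.S) (hst0 : s ≠ t) (hst : ∀ x ∈ P.S, x = s ∨ x = t) {m : ℕ}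
    (hm : 1 ≤ m) (hmax : ∀ n ∈ P.N, len P n ≤ m) (hlen : len P (wordV s t m) = m) :
    Eqv P (wordU s t m) (wordV s t m) := by
  obtain ⟨j, rfl⟩ : ∃ j, m = j + 1 := ⟨m - 1, by omega⟩
  have hN := (word_mem P hs ht (j + 1)).2
  have h1 := le_len_S_mul P hs hN
  have h2 := len_S_mul_ne P hs hN
  have h3 := hmax _ (P.N.mul_mem (P.subset hs) hN)
  rcases exists_word_eqv P hs ht hst j _ (P.N.mul_mem (P.subset hs) hN) (by omega) with h | h
  · exfalso
    have h4 := eqv_trans P (eqv_symm P (eqv_S_mul_S_mul P hs hN)) (eqv_mul_left P s h)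
    cases j with
    | zero =>
      rw [wordU_zero, mul_one] at h4
      rw [wordV_succ, wordU_zero, mul_one] at h4
      exact hst0 (P.inj t ht s hs h4).symm
    | succ i =>
      rw [wordU_succ s t i] at h4
      have h5 := len_congr P (eqv_trans P h4 (eqv_S_mul_S_mul P hs (word_mem P hs ht i).2))
      have := (word_len_le P hs ht i).2
      omega
  · have h4 := eqv_trans P (eqv_symm P (eqv_S_mul_S_mul P hs hN)) (eqv_mul_left P s h)
    rw [← wordU_succ s t j] at h4
    exact eqv_symm P h4

/-- The alternating words are reduced up to a common length where they meet. -/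
theorem exists_diameter {s t : G} (hs : s ∈ P.S) (ht : t ∈ P.S) (hne : s ≠ t)
    (hst : ∀ x ∈ P.S, x = s ∨ x = t) :
    ∃ m, 2 ≤ m ∧ (∀ k ≤ m, len P (wordU s t k) = k ∧ len P (wordV s t k) = k) ∧
      Eqv P (wordU s t m) (wordV s t m) ∧ ∀ n ∈ P.N, len P n ≤ m := by
  classical
  have : Fintype G := Fintype.ofFinite G
  obtain ⟨n0, hn0, hmax⟩ := Finset.exists_max_image (Finset.univ.filter fun n : G => n ∈ P.N)
    (len P) ⟨1, by simp⟩
  simp only [Finset.mem_filter, Finset.mem_univ, true_and] at hn0 hmax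
  set m := len P n0 with hm
  have hsN := P.subset hs
  have htN := P.subset ht
  have hm1 : 1 ≤ m := by
    have := hmax s hsN
    rw [len_S P hs] at this
    exact this
  -- both words of length `m` are reduced and equal
  have htop : Eqv P (wordU s t m) (wordV s t m) ∧ len P (wordV s t m) = m := by
    rcases exists_word_eqv P hs ht hst m n0 hn0 rfl with h | h
    · have hl : len P (wordV t s m) = m := by
        rw [(word_swap s t m).2, ← len_congr P h]
      have e := top_eqv P ht hs hne.symm (fun x hx => (hst x hx).symm) hm1 hmax hl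
      rw [(word_swap s t m).1, (word_swap s t m).2] at e
      exact ⟨eqv_symm P e, by rw [len_congr P e, ← len_congr P h]⟩
    · have hl : len P (wordV s t m) = m := by rw [← len_congr P h]
      exact ⟨top_eqv P hs ht hne hst hm1 hmax hl, hl⟩
  have hall : ∀ i k, k + i = m → len P (wordU s t k) = k ∧ len P (wordV s t k) = k := by
    intro i
    induction i with
    | zero =>
      intro k hk
      obtain rfl : k = m := by omega
      exact ⟨by rw [len_congr P htop.1, htop.2], htop.2⟩
    | succ i ih =>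
      intro k hk
      obtain ⟨h1, h2⟩ := ih (k + 1) (by omega)
      rw [wordU_succ] at h1
      rw [wordV_succ] at h2
      have hle := word_len_le P hs ht k
      have a1 := len_S_mul_le P hs (word_mem P hs ht k).2
      have a2 := len_S_mul_le P ht (word_mem P hs ht k).1
      omega
  have hm2 : 2 ≤ m := by
    by_contra h
    have hm1' : m = 1 := by omega
    have h' := htop.1
    rw [hm1', wordU_succ, wordV_succ, wordU_zero, wordV_zero, mul_one, mul_one] at h'
    exact hne (P.inj s hs t ht h')
  exact ⟨m, hm2, fun k hk => hall (m - k) k (by omega), htop.1, hmax⟩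

/-- The Feit–Higman theorem. -/
theorem index_cases (h2 : P.rank = 2) :
    ((P.B ⊓ P.N).subgroupOf P.N).index ∈ ({4, 6, 8, 12, 16} : Set ℕ) := by
  classical
  obtain ⟨s, t, hne, hS⟩ : ∃ s t, s ≠ t ∧ P.S = {s, t} := by
    have : P.S.ncard = 2 := by rw [← Nat.card_coe_set_eq]; exact h2
    exact Set.ncard_eq_two.1 this
  have hs : s ∈ P.S := by rw [hS]; simp
  have ht : t ∈ P.S := by rw [hS]; simp
  have hst : ∀ x ∈ P.S, x = s ∨ x = t := fun x hx => by simpa [hS] using hx
  obtain ⟨m, hm, hlen, htop, hmax⟩ := exists_diameter P hs ht hne hst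
  have hmem := word_mem P hs ht
  have : Fintype (G ⧸ P.B) := Fintype.ofFinite _
  have hB : ∀ {n : G}, n ∈ P.N → 1 ≤ len P n → n ∉ P.B := fun hn h hB => by
    rw [(len_eq_zero P hn).2 hB] at h
    omega
  have hH : HeckeRel m (deg P t) (deg P s) (opT P s) (opT P t) (fun k => opT P (wordU s t k))
      (fun k => opT P (wordV s t k)) := by
    have hsv : ∀ k, k < m → opT P s * opT P (wordV s t k) = opT P (wordU s t (k + 1)) := by
      intro k hk
      rw [wordU_succ]
      refine opT_mul P hs (hmem k).2 ?_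
      rw [← wordU_succ, (hlen k hk.le).2, (hlen (k + 1) hk).1]
      omega
    have htu : ∀ k, k < m → opT P t * opT P (wordU s t k) = opT P (wordV s t (k + 1)) := by
      intro k hk
      rw [wordV_succ]
      refine opT_mul P ht (hmem k).1 ?_
      rw [← wordV_succ, (hlen k hk.le).1, (hlen (k + 1) hk).2]
      omega
    exact
    { u0 := by rw [wordU_zero, opT_one]
      v0 := by rw [wordV_zero, opT_one]
      uv := opT_congr P htop
      sv := hsv
      tu := htu
      su := fun k hk => by
        rw [← hsv k hk, ← mul_assoc, opT_sq P hs, add_mul, smul_mul_assoc, smul_mul_assoc, one_mul]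
      tv := fun k hk => by
        rw [← htu k hk, ← mul_assoc, opT_sq P ht, add_mul, smul_mul_assoc, smul_mul_assoc, one_mul]
      tru := fun k h1 hk => opT_trace P (hB (hmem k).1 (by rw [(hlen k hk).1]; exact h1))
      trv := fun k h1 hk => opT_trace P (hB (hmem k).2 (by rw [(hlen k hk).2]; exact h1)) }
  -- equal parameters for odd diameter
  have hdegs : ∀ k, k + 1 ≤ m → deg P (wordU s t (k + 1)) = deg P s * deg P (wordV s t k) ∧
      deg P (wordV s t (k + 1)) = deg P t * deg P (wordU s t k) := by
    intro k hk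
    rw [wordU_succ, wordV_succ]
    refine ⟨deg_mul P hs (hmem k).2 ?_, deg_mul P ht (hmem k).1 ?_⟩
    · rw [← wordU_succ, (hlen k (by omega)).2, (hlen (k + 1) hk).1]; omega
    · rw [← wordV_succ, (hlen k (by omega)).1, (hlen (k + 1) hk).2]; omega
  have hpows : ∀ i, 2 * i ≤ m → deg P (wordU s t (2 * i)) = (deg P s * deg P t) ^ i ∧
      deg P (wordV s t (2 * i)) = (deg P s * deg P t) ^ i := by
    intro i
    induction i with
    | zero => intro _; simp [wordU_zero, wordV_zero, deg_one]
    | succ i ih =>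
      intro hi
      obtain ⟨e1, e2⟩ := ih (by omega)
      obtain ⟨f1, f2⟩ := hdegs (2 * i) (by omega)
      obtain ⟨g1, g2⟩ := hdegs (2 * i + 1) (by omega)
      rw [show 2 * (i + 1) = 2 * i + 1 + 1 by ring, g1, g2, f1, f2, e1, e2]
      constructor <;> ring
  have hpos : 0 < deg P s * deg P t := by
    have := two_le_deg P hs
    have := two_le_deg P ht
    positivity
  have hcases := diameter_cases hH hm (two_le_deg P ht) (two_le_deg P hs) (by
    rintro ⟨i, rfl⟩
    obtain ⟨e1, e2⟩ := hpows i (by omega)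
    obtain ⟨f1, f2⟩ := hdegs (2 * i) (by omega)
    have := deg_congr P htop
    rw [f1, f2, e1, e2] at this
    exact (Nat.eq_of_mul_eq_mul_right (pow_pos hpos i) this).symm)
  -- the Weyl group has `2 m` elements
  have hidx : ((P.B ⊓ P.N).subgroupOf P.N).index = 2 * m := by
    let f : Fin (2 * m) → P.N ⧸ (P.B ⊓ P.N).subgroupOf P.N := fun i =>
      if (i : ℕ) < m then QuotientGroup.mk (⟨wordU s t i, (hmem _).1⟩ : P.N)
      else QuotientGroup.mk (⟨wordV s t (i - m + 1), (hmem _).2⟩ : P.N)
    have hmk : ∀ (x y : P.N), (QuotientGroup.mk x : P.N ⧸ (P.B ⊓ P.N).subgroupOf P.N) =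
        QuotientGroup.mk y ↔ Eqv P (x : G) y := by
      intro x y
      rw [QuotientGroup.eq, Subgroup.mem_subgroupOf]
      simp [Eqv, P.N.mul_mem, P.N.inv_mem, x.2, y.2]
    have hUV : ∀ i j, i < m → j ≤ m → 1 ≤ j → ¬ Eqv P (wordU s t i) (wordV s t j) := by
      intro i j hi hj hj1 h
      have hij := len_congr P h
      rw [(hlen i hi.le).1, (hlen j hj).2] at hij
      subst hij
      obtain ⟨l, rfl⟩ : ∃ l, i = l + 1 := ⟨i - 1, by omega⟩
      have h' := eqv_mul_left P s h
      rw [wordU_succ, ← wordU_succ s t (l + 1)] at h'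
      have h'' := len_congr P (eqv_trans P (eqv_symm P (eqv_S_mul_S_mul P hs (hmem l).2)) h')
      rw [(hlen l (by omega)).2, (hlen (l + 1 + 1) (by omega)).1] at h''
      omega
    have hbij : Function.Bijective f := by
      constructor
      · intro i j h
        simp only [f] at h
        split_ifs at h with hi hj hj <;> rw [hmk] at h <;> simp only at h
        · have := len_congr P h
          rw [(hlen _ hi.le).1, (hlen _ hj.le).1] at this
          exact Fin.ext this
        · exact absurd h (hUV _ _ hi (by omega) (by omega))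
        · exact absurd (eqv_symm P h) (hUV _ _ hj (by omega) (by omega))
        · have := len_congr P h
          rw [(hlen _ (by omega)).2, (hlen _ (by omega)).2] at this
          exact Fin.ext (by omega)
      · intro x
        obtain ⟨⟨n, hn⟩, rfl⟩ := QuotientGroup.mk_surjective x
        have hk := hmax n hn
        rcases exists_word_eqv P hs ht hst _ n hn rfl with h | h
        · rcases hk.eq_or_lt with hk' | hk'
          · refine ⟨⟨2 * m - 1, by omega⟩, ?_⟩
            simp only [f]
            rw [if_neg (by omega), hmk]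
            simp only [show 2 * m - 1 - m + 1 = m by omega]
            rw [hk'] at h
            exact eqv_symm P (eqv_trans P h htop)
          · refine ⟨⟨len P n, by omega⟩, ?_⟩
            simp only [f]
            rw [if_pos hk', hmk]
            exact eqv_symm P h
        · rcases Nat.eq_zero_or_pos (len P n) with h0 | h0
          · refine ⟨⟨0, by omega⟩, ?_⟩
            simp only [f]
            rw [if_pos (by omega), hmk]
            simp only [wordU_zero]
            rw [h0, wordV_zero] at h
            exact eqv_symm P h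
          · refine ⟨⟨m + (len P n - 1), by omega⟩, ?_⟩
            simp only [f]
            rw [if_neg (by omega), hmk]
            simp only [show m + (len P n - 1) - m + 1 = len P n by omega]
            exact eqv_symm P h
    rw [Subgroup.index_eq_card, ← Nat.card_congr (Equiv.ofBijective f hbij), Nat.card_eq_fintype_card,
      Fintype.card_fin]
  rw [hidx]
  rcases hcases with rfl | rfl | rfl | rfl | rfl <;> simp

end Cfsg.Agent.FeitHigman
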